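import Mathlib.RingTheory.Flat.Stability
import Mathlib.RingTheory.Flat.Equalizer
import Mathlib.LinearAlgebra.TensorProduct.RightExactness
import Mathlib.RingTheory.Ideal.Quotient.Operations
import Mathlib.RingTheory.LocalRing.MaximalIdeal.Basic
import Mathlib.Algebra.Module.FinitePresentation
import Mathlib.RingTheory.Nakayama
import Mathlib.RingTheory.LocalRing.Module
import Mathlib.RingTheory.Finiteness.Cardinality
import Mathlib.LinearAlgebra.TensorProduct.Quotient

/-!
# A map onto a flat module which is bijective on the closed fibre is bijective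
-/

set_option autoImplicit false
set_option linter.style.haveILetI false
universe u

open TensorProduct IsLocalRing

namespace Groth.Agent.H8Props.IsoLocus

theorem lTensor_injective_of_flat_coker' {R N M : Type u} [CommRing R] [AddCommGroup N] [Module R N]
    [AddCommGroup M] [Module R M] (u : N →ₗ[R] M) (hu : Function.Injective u)
    [Module.Flat R (M ⧸ LinearMap.range u)] (Q : Type u) [AddCommGroup Q] [Module R Q] :
    Function.Injective (u.lTensor Q) :=
  LinearMap.lTensor_injective_of_exact_of_flat (LinearMap.range u).mkQ (Submodule.mkQ_surjective _) u hu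
    (LinearMap.exact_map_mkQ_range u) Q

theorem tmul_eq_zero_iff {P Q M : Type u} [CommRing P] [CommRing Q] [Algebra P Q] [AddCommGroup M] [Module P M]
    (hQ : Function.Surjective (algebraMap P Q)) (x : M) :
    (1 : Q) ⊗ₜ[P] x = 0 ↔ x ∈ RingHom.ker (algebraMap P Q) • (⊤ : Submodule P M) := by
  let I := RingHom.ker (algebraMap P Q)
  let e : (P ⧸ I) ≃ₗ[P] Q := (Ideal.quotientKerAlgEquivOfSurjective (f := Algebra.ofId P Q) hQ).toLinearEquiv
  have he : e 1 = 1 := map_one (Ideal.quotientKerAlgEquivOfSurjective (f := Algebra.ofId P Q) hQ)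
  have h1 : (1 : Q) ⊗ₜ[P] x = LinearEquiv.rTensor M e (1 ⊗ₜ[P] x) := by
    rw [LinearEquiv.rTensor_tmul, he]
  rw [h1, LinearEquiv.map_eq_zero_iff, ← (TensorProduct.quotTensorEquivQuotSMul M I).map_eq_zero_iff,
    show (1 : P ⧸ I) = Ideal.Quotient.mk I 1 from rfl, TensorProduct.quotTensorEquivQuotSMul_mk_tmul, one_smul,
    Submodule.Quotient.mk_eq_zero]

theorem exists_one_tmul {P Q M : Type u} [CommRing P] [CommRing Q] [Algebra P Q] [AddCommGroup M] [Module P M]
    (hQ : Function.Surjective (algebraMap P Q)) (z : Q ⊗[P] M) : ∃ m : M, (1 : Q) ⊗ₜ[P] m = z := by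
  induction z using TensorProduct.induction_on with
  | zero => exact ⟨0, tmul_zero _ _⟩
  | tmul q m =>
    obtain ⟨p, rfl⟩ := hQ q
    exact ⟨p • m, by rw [tmul_smul, smul_tmul', Algebra.smul_def, mul_one]⟩
  | add a b ha hb =>
    obtain ⟨ma, rfl⟩ := ha
    obtain ⟨mb, rfl⟩ := hb
    exact ⟨ma + mb, tmul_add _ _ _⟩

theorem bijective_of_bijective_lTensor {R P Q M N : Type u} [CommRing R] [IsLocalRing R] [CommRing P]
    [IsLocalRing P] [Algebra R P] [CommRing Q] [Algebra P Q] (hQ : Function.Surjective (algebraMap P Q))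
    (hker : RingHom.ker (algebraMap P Q) = (maximalIdeal R).map (algebraMap R P))
    (hle : (maximalIdeal R).map (algebraMap R P) ≤ maximalIdeal P)
    [AddCommGroup M] [Module P M] [Module R M] [IsScalarTower R P M] [Module.Finite P M]
    [AddCommGroup N] [Module P N] [Module R N] [IsScalarTower R P N] [Module.FinitePresentation P N]
    [Module.Flat R N] (φ : M →ₗ[P] N) (h : Function.Bijective (φ.lTensor Q)) : Function.Bijective φ := by
  have hI : RingHom.ker (algebraMap P Q) ≤ (⊥ : Ideal P).jacobson := by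
    rw [IsLocalRing.jacobson_eq_maximalIdeal ⊥ bot_ne_top, hker]
    exact hle
  have hsurj : Function.Surjective φ := by
    rw [← LinearMap.range_eq_top]
    refine eq_top_iff.2 (Submodule.le_of_le_smul_of_le_jacobson_bot Module.Finite.fg_top hI ?_)
    intro n _
    obtain ⟨z, hz⟩ := h.2 ((1 : Q) ⊗ₜ n)
    obtain ⟨m, rfl⟩ := exists_one_tmul hQ z
    rw [LinearMap.lTensor_tmul, ← sub_eq_zero, ← tmul_sub, tmul_eq_zero_iff hQ] at hz
    refine Submodule.mem_sup.2 ⟨φ m, ⟨m, rfl⟩, n - φ m, ?_, by abel⟩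
    simpa using neg_mem hz
  refine ⟨?_, hsurj⟩
  rw [← LinearMap.ker_eq_bot]
  refine Submodule.eq_bot_of_le_smul_of_le_jacobson_bot _ _ (Module.FinitePresentation.fg_ker φ hsurj) ?_ hI
  intro x hx
  have h0 : (1 : Q) ⊗ₜ[P] x = 0 := h.1 (by rw [LinearMap.lTensor_tmul, LinearMap.mem_ker.1 hx, tmul_zero, map_zero])
  rw [tmul_eq_zero_iff hQ, hker, ← Submodule.restrictScalars_mem R, Ideal.smul_restrictScalars,
    Submodule.restrictScalars_top] at h0
  let ι : LinearMap.ker φ →ₗ[R] M := (LinearMap.ker φ).subtype.restrictScalars R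
  let e : (M ⧸ LinearMap.range ι) ≃ₗ[R] N :=
    (Submodule.quotEquivOfEq _ _ (by ext; simp [ι])).trans
      ((φ.restrictScalars R).quotKerEquivOfSurjective hsurj)
  haveI : Module.Flat R (M ⧸ LinearMap.range ι) := Module.Flat.of_linearEquiv e
  have hinj := lTensor_injective_of_flat_coker' ι (Submodule.injective_subtype _) (R ⧸ maximalIdeal R)
  have h1 : (1 : R ⧸ maximalIdeal R) ⊗ₜ[R] x = 0 :=
    (tmul_eq_zero_iff Ideal.Quotient.mk_surjective x).2 (by simpa [Ideal.Quotient.algebraMap_eq, Ideal.mk_ker] using h0)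
  have h2 : (1 : R ⧸ maximalIdeal R) ⊗ₜ[R] (⟨x, hx⟩ : LinearMap.ker φ) = 0 :=
    hinj (by rw [LinearMap.lTensor_tmul, map_zero]; exact h1)
  rw [tmul_eq_zero_iff Ideal.Quotient.mk_surjective, Ideal.Quotient.algebraMap_eq, Ideal.mk_ker,
    ← Submodule.restrictScalars_top R P, ← Ideal.smul_restrictScalars, Submodule.restrictScalars_mem] at h2
  rw [hker]
  have h3 := Submodule.mem_map_of_mem (f := (LinearMap.ker φ).subtype) h2
  rwa [Submodule.map_smul'', Submodule.map_top, Submodule.range_subtype] at h3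

end Groth.Agent.H8Props.IsoLocus
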