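import Groth.Agent.H29Fitt.Rank
import Groth.Agent.H06EGA11.KernelFP
import Mathlib.RingTheory.Spectrum.Prime.ConstructibleSet
import Mathlib.LinearAlgebra.Matrix.Adjugate

/-!
# The locus where a map onto a flat module is locally bijective
-/

set_option autoImplicit false
set_option linter.style.haveILetI false
universe u

open Matrix

namespace Groth.Agent.H8Props.IsoLocus

variable {B M N : Type u} [CommRing B] [AddCommGroup M] [Module B M] [AddCommGroup N] [Module B N]

/-- `φ` is bijective after localisation at `p`, in terms of elements. -/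
def LocBij (φ : M →ₗ[B] N) (p : Ideal B) : Prop :=
  (∀ n, ∃ s ∉ p, s • n ∈ LinearMap.range φ) ∧ ∀ m, φ m = 0 → ∃ s ∉ p, s • m = 0

theorem notMem_support_quot_iff (φ : M →ₗ[B] N) (p : PrimeSpectrum B) :
    p ∉ Module.support B (N ⧸ LinearMap.range φ) ↔ ∀ n, ∃ s ∉ p.asIdeal, s • n ∈ LinearMap.range φ := by
  rw [Module.notMem_support_iff']
  constructor
  · intro h n
    obtain ⟨s, hs, hn⟩ := h (Submodule.Quotient.mk n)
    rw [← Submodule.Quotient.mk_smul, Submodule.Quotient.mk_eq_zero] at hn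
    exact ⟨s, hs, hn⟩
  · intro h c
    obtain ⟨n, rfl⟩ := Submodule.Quotient.mk_surjective _ c
    obtain ⟨s, hs, hn⟩ := h n
    exact ⟨s, hs, by rw [← Submodule.Quotient.mk_smul, Submodule.Quotient.mk_eq_zero]; exact hn⟩

theorem locBij_pi_iff {n : ℕ} [Module.Finite B M] (φ : M →ₗ[B] (Fin n → B)) (p : PrimeSpectrum B) :
    LocBij φ p.asIdeal ↔
      p ∉ Module.support B ((Fin n → B) ⧸ LinearMap.range φ) ∧ ¬ Fitt.ideal B M n ≤ p.asIdeal := by
  rw [notMem_support_quot_iff]
  refine and_congr_right fun hs => ⟨fun h => ?_, fun h m hm => ?_⟩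
  · choose s hsp hsr using fun i : Fin n => hs (Pi.single i 1)
    choose y hy using hsr
    rw [H29Fitt.not_le_prime_iff_finrank_le]
    refine H29Fitt.finrank_le_of_spansUpTo (S := p.asIdeal.primeCompl) le_rfl (m := y) fun x => ?_
    classical
    let t := ∏ i, s i
    have ht : t ∈ p.asIdeal.primeCompl := Submonoid.prod_mem _ fun i _ => hsp i
    let z := ∑ i, ((φ x i) * ∏ j ∈ Finset.univ.erase i, s j) • y i
    have hz : φ (t • x - z) = 0 := by
      rw [map_sub, map_smul, sub_eq_zero, map_sum]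
      funext k
      rw [Finset.sum_apply, Finset.sum_eq_single k]
      · rw [map_smul, hy, Pi.smul_apply, Pi.smul_apply, Pi.smul_apply, Pi.single_eq_same, smul_eq_mul, smul_eq_mul, smul_eq_mul,
          mul_one]
        show t * φ x k = _
        rw [show t = (∏ j ∈ Finset.univ.erase k, s j) * s k from
          (Finset.prod_erase_mul _ _ (Finset.mem_univ k)).symm]
        ring
      · intro i _ hik
        rw [map_smul, hy, Pi.smul_apply, Pi.smul_apply, Pi.single_eq_of_ne (Ne.symm hik), smul_zero, smul_zero]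
      · simp
    obtain ⟨c, hc, hcz⟩ := h _ hz
    refine ⟨c * t, mul_mem hc ht, ?_⟩
    rw [smul_sub, smul_smul, sub_eq_zero] at hcz
    rw [hcz]
    exact Submodule.smul_mem _ _ (Submodule.sum_mem _ fun i _ =>
      Submodule.smul_mem _ _ (Submodule.subset_span ⟨i, rfl⟩))
  · classical
    obtain ⟨f, hf, g, hg⟩ := H29Fitt.exists_spansUpTo_powers h
    have hpow : ∀ s ∈ Submonoid.powers f, s ∉ p.asIdeal := by
      rintro _ ⟨e, rfl⟩ he
      exact hf (p.2.mem_of_pow_mem _ he)
    have hrow : ∀ i : Fin n, ∃ t ∉ p.asIdeal, ∃ a : Fin n → B, t • (Pi.single i 1 : Fin n → B) = ∑ j, a j • φ (g j) := by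
      intro i
      obtain ⟨s, hsp, y, hy⟩ := hs (Pi.single i 1)
      obtain ⟨s', hs', hy'⟩ := hg y
      obtain ⟨a, ha⟩ := (Submodule.mem_span_range_iff_exists_fun B).1 hy'
      refine ⟨s' * s, fun h' => (p.2.mem_or_mem h').elim (hpow s' hs') hsp, a, ?_⟩
      rw [mul_smul, ← hy, ← map_smul, ← ha, map_sum]
      simp only [map_smul]
    choose t ht a ha using hrow
    let A : Matrix (Fin n) (Fin n) B := Matrix.of a
    let Φ : Matrix (Fin n) (Fin n) B := Matrix.of fun j => φ (g j)
    have hAΦ : A * Φ = Matrix.diagonal t := by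
      ext i k
      have := congrFun (ha i) k
      simp only [Pi.smul_apply, Finset.sum_apply, smul_eq_mul] at this
      rw [Matrix.mul_apply, Matrix.diagonal_apply]
      simp only [A, Φ, Matrix.of_apply]
      rw [← this]
      by_cases hik : i = k
      · subst hik; simp
      · simp [hik, Ne.symm hik]
    have hdet : Φ.det ∉ p.asIdeal := fun h' => by
      have := Ideal.mul_mem_left p.asIdeal A.det h'
      rw [← Matrix.det_mul, hAΦ, Matrix.det_diagonal, p.2.prod_mem_iff] at this
      obtain ⟨i, -, hi⟩ := this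
      exact ht i hi
    obtain ⟨s, hs', hsm⟩ := hg m
    obtain ⟨c, hc⟩ := (Submodule.mem_span_range_iff_exists_fun B).1 hsm
    refine ⟨Φ.det * s, fun h' => (p.2.mem_or_mem h').elim hdet (hpow s hs'), ?_⟩
    have hcΦ : c ᵥ* Φ = 0 := by
      funext k
      have h1 := congrFun ((congrArg φ hc).trans (by rw [map_smul, hm, smul_zero])) k
      simp only [map_sum, map_smul, Finset.sum_apply, Pi.smul_apply, smul_eq_mul, Pi.zero_apply] at h1
      simpa [Matrix.vecMul, dotProduct, Φ] using h1
    have hc0 : Φ.det • c = 0 := by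
      have := congrArg (fun v => v ᵥ* Φ.adjugate) hcΦ
      simpa [Matrix.vecMul_vecMul, Matrix.mul_adjugate, Matrix.vecMul_smul] using this
    rw [mul_smul, ← hc, Finset.smul_sum]
    refine Finset.sum_eq_zero fun j _ => ?_
    rw [smul_smul, show Φ.det * c j = 0 from congrFun hc0 j, zero_smul]

theorem isOpen_isCompact_locBij {A : Type u} [CommRing A] [Algebra A B] [Algebra.FinitePresentation A B]
    [Module.FinitePresentation B M] [Module A N] [IsScalarTower A B N] [Module.FinitePresentation B N]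
    [Module.Flat A N] (φ : M →ₗ[B] N) :
    IsOpen {p : PrimeSpectrum B | LocBij φ p.asIdeal} ∧
      IsCompact {p : PrimeSpectrum B | LocBij φ p.asIdeal} := by
  obtain ⟨n, π, hπ⟩ := Module.Finite.exists_fin' B N
  let G := φ.coprod π
  have hG : Function.Surjective G := fun x => by
    obtain ⟨e, rfl⟩ := hπ x
    exact ⟨(0, e), by simp [G]⟩
  haveI : Module.FinitePresentation B (Fin n → B) := Module.finitePresentation_of_projective B _
  haveI : Module.FinitePresentation B (LinearMap.ker G) := H06EGA11.finitePresentation_ker (A := A) G hG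
  let ψ : LinearMap.ker G →ₗ[B] (Fin n → B) := (LinearMap.snd B M (Fin n → B)).comp (LinearMap.ker G).subtype
  have key : ∀ p : PrimeSpectrum B, LocBij φ p.asIdeal ↔ LocBij ψ p.asIdeal := by
    intro p
    refine and_congr ⟨fun h e => ?_, fun h x => ?_⟩ ⟨fun h y hy => ?_, fun h m hm => ?_⟩
    · obtain ⟨s, hs, m, hm⟩ := h (π e)
      exact ⟨s, hs, ⟨(-m, s • e), by simp [G, hm]⟩, rfl⟩
    · obtain ⟨e, rfl⟩ := hπ x
      obtain ⟨s, hs, ⟨⟨m, e'⟩, hk⟩, he'⟩ := h e
      refine ⟨s, hs, -m, ?_⟩
      have he'' : e' = s • e := he'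
      rw [LinearMap.mem_ker, LinearMap.coprod_apply, he'', map_smul] at hk
      rw [map_neg, neg_eq_iff_add_eq_zero]
      exact hk
    · obtain ⟨⟨m, e⟩, hk⟩ := y
      obtain rfl : e = 0 := hy
      obtain ⟨s, hs, h0⟩ := h m (by simpa [G] using hk)
      exact ⟨s, hs, Subtype.ext (Prod.ext h0 (smul_zero s))⟩
    · obtain ⟨s, hs, h0⟩ := h ⟨(m, 0), by simp [G, hm]⟩ rfl
      exact ⟨s, hs, congrArg (fun y : LinearMap.ker G => (y : M × (Fin n → B)).1) h0⟩
  haveI : Module.Finite B (LinearMap.ker G) := inferInstance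
  haveI : Module.FinitePresentation B ((Fin n → B) ⧸ LinearMap.range ψ) :=
    Module.finitePresentation_of_surjective (LinearMap.range ψ).mkQ (Submodule.mkQ_surjective _)
      (by rw [Submodule.ker_mkQ, ← Submodule.map_top]; exact Module.Finite.fg_top.map _)
  have e : {p : PrimeSpectrum B | LocBij φ p.asIdeal} =
      (PrimeSpectrum.zeroLocus (Fitt.ideal B ((Fin n → B) ⧸ LinearMap.range ψ) 0 : Set B))ᶜ ∩
        (PrimeSpectrum.zeroLocus (Fitt.ideal B (LinearMap.ker G) n : Set B))ᶜ := by
    ext p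
    rw [Set.mem_ofPred_eq, key, locBij_pi_iff, Set.mem_inter_iff, H29Fitt.zeroLocus_ideal_zero]
    rfl
  rw [e]
  refine ⟨(PrimeSpectrum.isClosed_zeroLocus _).isOpen_compl.inter (PrimeSpectrum.isClosed_zeroLocus _).isOpen_compl, ?_⟩
  have h := fun {I : Ideal B} (hI : I.FG) =>
    (PrimeSpectrum.isRetrocompact_zeroLocus_compl_of_fg hI).isCompact
  exact (PrimeSpectrum.isRetrocompact_zeroLocus_compl_of_fg (H29Fitt.ideal_fg 0))
    (h (H29Fitt.ideal_fg n)) (PrimeSpectrum.isClosed_zeroLocus _).isOpen_compl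

end Groth.Agent.H8Props.IsoLocus
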