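import Groth.Agent.H8Props.IsoLocus.Algebra
import Groth.Agent.H8Props.IsoLocus.Spectrum
import Groth.Agent.H8Props.FreeLocus.Fibrewise
import Groth.Agent.H8Props.FunDescent.Stalk
import Groth.Agent.H06EGA11.Sheaf
import Groth.Agent.H7Lim.Topology
import Groth.Agent.H17.FPExt.Closure

/-!
# The locus where a map onto a relatively flat module is bijective
-/

set_option autoImplicit false
set_option linter.style.haveILetI false
universe u

open CategoryTheory CategoryTheory.Limits AlgebraicGeometry TopologicalSpace Topology TensorProduct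
open Groth.Agent.H06Mod Groth.Agent.H8Props

namespace Groth.Agent.H8Props.IsoLocus

variable {X S : Scheme.{u}}

attribute [local instance] stalkAlgebra

/-- The points at which a map of modules is bijective on stalks. -/
def isoSet {F G : X.Modules} (u : F ⟶ G) : Set X := {x | Function.Bijective (stalkLin u x)}

theorem bijective_stalkLin_pullback {X' : Scheme.{u}} (g : X' ⟶ X) {F G : X.Modules} (u : F ⟶ G) (z : X')
    (h : Function.Bijective (stalkLin u (g z))) :
    Function.Bijective (stalkLin ((Scheme.Modules.pullback g).map u) z) := by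
  have e : (stalkLin ((Scheme.Modules.pullback g).map u) z) ∘ (pullStalkEquiv g F z) =
      (pullStalkEquiv g G z) ∘ ((stalkLin u (g z)).lTensor (X'.presheaf.stalk z)) :=
    funext (FunDescent.pullStalkEquiv_naturality g u z)
  rw [← Function.Bijective.of_comp_iff _ (pullStalkEquiv g F z).bijective, e]
  exact (pullStalkEquiv g G z).bijective.comp
    (LinearEquiv.lTensor (X'.presheaf.stalk z) (LinearEquiv.ofBijective _ h)).bijective

theorem bijective_stalkLin_of_fibre (f : X ⟶ S) {F G : X.Modules} (hF : CohB1.IsFP F) (hG : CohB1.IsFP G)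
    {s : S} (z : f.fiber s) (hfl : FlatMod.IsFlatOverAt f G (f.fiberι s z)) (u : F ⟶ G)
    (h : Function.Bijective (stalkLin ((Scheme.Modules.pullback (f.fiberι s)).map u) z)) :
    Function.Bijective (stalkLin u (f.fiberι s z)) := by
  let ι := f.fiberι s
  let x := ι z
  haveI := FreeLocus.finitePresentation_stalk F hF x
  haveI := FreeLocus.finitePresentation_stalk G hG x
  letI := FlatMod.moduleStalkOver f F x
  letI := FlatMod.moduleStalkOver f G x
  letI := (f.stalkMap x).hom.toAlgebra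
  haveI : IsScalarTower (S.presheaf.stalk (f x)) (X.presheaf.stalk x) (F.presheaf.stalk x) :=
    .of_algebraMap_smul fun _ _ => rfl
  haveI : IsScalarTower (S.presheaf.stalk (f x)) (X.presheaf.stalk x) (G.presheaf.stalk x) :=
    .of_algebraMap_smul fun _ _ => rfl
  haveI : Module.Flat (S.presheaf.stalk (f x)) (G.presheaf.stalk x) := hfl
  have hs : f x = s := (f.range_fiberι s).subset (Set.mem_range_self z)
  have hker : RingHom.ker (algebraMap (X.presheaf.stalk x) ((f.fiber s).presheaf.stalk z)) =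
      (IsLocalRing.maximalIdeal (S.presheaf.stalk (f x))).map
        (algebraMap (S.presheaf.stalk (f x)) (X.presheaf.stalk x)) := by
    have e : FibreStalk.toFibre f x s z rfl = ι.stalkMap z := by
      simp only [FibreStalk.toFibre, TopCat.Presheaf.stalkCongr_hom,
        TopCat.Presheaf.stalkSpecializes_refl]
      exact Category.id_comp _
    show RingHom.ker (ι.stalkMap z).hom = _
    rw [← e, FibreCriterion.ker_toFibre_of_eq f x s hs z rfl]
    rfl
  have hI : (IsLocalRing.maximalIdeal (S.presheaf.stalk (f x))).map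
      (algebraMap (S.presheaf.stalk (f x)) (X.presheaf.stalk x)) ≤
      IsLocalRing.maximalIdeal (X.presheaf.stalk x) :=
    Ideal.map_le_iff_le_comap.2 fun a ha => by
      rw [Ideal.mem_comap]
      exact (IsLocalRing.mem_maximalIdeal _).2 (map_nonunit (f.stalkMap x).hom a
        ((IsLocalRing.mem_maximalIdeal _).1 ha))
  refine bijective_of_bijective_lTensor (R := S.presheaf.stalk (f x)) (ι.stalkMap_surjective z) hker hI
    (stalkLin u x) ?_
  have e : (stalkLin ((Scheme.Modules.pullback ι).map u) z) ∘ (pullStalkEquiv ι F z) =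
      (pullStalkEquiv ι G z) ∘ ((stalkLin u x).lTensor ((f.fiber s).presheaf.stalk z)) :=
    funext (FunDescent.pullStalkEquiv_naturality ι u z)
  refine (Function.Bijective.of_comp_iff' (pullStalkEquiv ι G z).bijective _).1 ?_
  rw [← e]
  exact h.comp (pullStalkEquiv ι F z).bijective

theorem bijective_stalkLin_iff_locBij {F G : X.Modules} (hF : Coh.IsQCoh F) (hG : Coh.IsQCoh G) (u : F ⟶ G)
    {V : X.Opens} (hV : IsAffineOpen V) (x : V) :
    Function.Bijective (stalkLin u x.1) ↔ LocBij (H17.FPExt.appLin' u V) (hV.primeIdealOf x).asIdeal := by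
  letI := TopCat.Presheaf.algebra_section_stalk X.presheaf x
  letI := Module.compHom (F.presheaf.stalk x.1) (algebraMap Γ(X, V) (X.presheaf.stalk x.1))
  letI := Module.compHom (G.presheaf.stalk x.1) (algebraMap Γ(X, V) (X.presheaf.stalk x.1))
  let T := (hV.primeIdealOf x).asIdeal.primeCompl
  let gF := H29Fitt.germLin F x
  let gG := H29Fitt.germLin G x
  haveI : IsLocalizedModule T gF := H29Fitt.isLocalizedModule_germLin F hF hV x
  haveI : IsLocalizedModule T gG := H29Fitt.isLocalizedModule_germLin G hG hV x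
  have hc : ∀ m, stalkLin u x.1 (gF m) = gG (H17.FPExt.appLin' u V m) := fun m => stalkLin_germ u x.1 V x.2 m
  have hlin : ∀ (c : Γ(X, V)) (a : F.presheaf.stalk x.1), stalkLin u x.1 (c • a) = c • stalkLin u x.1 a :=
    fun c a => map_smul (stalkLin u x.1) (algebraMap Γ(X, V) (X.presheaf.stalk x.1) c) a
  have hu : ∀ (c : T), Function.Bijective (fun b : G.presheaf.stalk x.1 => (c : Γ(X, V)) • b) := fun c =>
    (Module.End.isUnit_iff _).1 (IsLocalizedModule.map_units gG c)
  have huF : ∀ (c : T), Function.Bijective (fun b : F.presheaf.stalk x.1 => (c : Γ(X, V)) • b) := fun c =>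
    (Module.End.isUnit_iff _).1 (IsLocalizedModule.map_units gF c)
  constructor
  · intro h
    refine ⟨fun n => ?_, fun m hm => ?_⟩
    · obtain ⟨a, ha⟩ := h.2 (gG n)
      obtain ⟨⟨m, c⟩, hmc⟩ := IsLocalizedModule.surj T gF a
      have : gG ((c : Γ(X, V)) • n) = gG (H17.FPExt.appLin' u V m) := by
        rw [← hc, ← hmc, map_smul, ← ha]
        exact (hlin _ _).symm
      obtain ⟨d, hd⟩ := IsLocalizedModule.exists_of_eq (S := T) (f := gG) this
      refine ⟨(d : Γ(X, V)) * c, T.mul_mem d.2 c.2, (d : Γ(X, V)) • m, ?_⟩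
      rw [map_smul, mul_smul]
      exact hd.symm
    · have : gF m = 0 := h.1 (by rw [hc, hm, map_zero, map_zero])
      obtain ⟨d, hd⟩ := (IsLocalizedModule.eq_zero_iff T gF).1 this
      exact ⟨(d : Γ(X, V)), d.2, hd⟩
  · rintro ⟨hs, hi⟩
    constructor
    · refine (injective_iff_map_eq_zero _).2 fun a ha => ?_
      obtain ⟨⟨m, c⟩, hmc⟩ := IsLocalizedModule.surj T gF a
      have : gG (H17.FPExt.appLin' u V m) = 0 := by
        rw [← hc, ← hmc, show c • a = (c : Γ(X, V)) • a from rfl, hlin, ha, smul_zero]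
      obtain ⟨d, hd⟩ := (IsLocalizedModule.eq_zero_iff T gG).1 this
      obtain ⟨e, he, he0⟩ := hi ((d : Γ(X, V)) • m) (by rw [map_smul]; exact hd)
      have h0 : gF m = 0 := (IsLocalizedModule.eq_zero_iff T gF).2
        ⟨⟨e * d, T.mul_mem he d.2⟩, (mul_smul e (d : Γ(X, V)) m).trans he0⟩
      exact (huF c).1 (hmc.trans (h0.trans (smul_zero _).symm))
    · intro b
      obtain ⟨⟨n, c⟩, hnc⟩ := IsLocalizedModule.surj T gG b
      obtain ⟨t, ht, m, hm⟩ := hs n
      obtain ⟨a, ha⟩ := (huF ⟨t * c, T.mul_mem ht c.2⟩).2 (gF m)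
      refine ⟨a, (hu ⟨t * c, T.mul_mem ht c.2⟩).1 ?_⟩
      show (t * (c : Γ(X, V))) • _ = (t * (c : Γ(X, V))) • b
      rw [← hlin]
      have ha' : (t * (c : Γ(X, V))) • a = gF m := ha
      rw [ha', hc, hm, map_smul, ← hnc, mul_smul]
      rfl

theorem isOpen_and_isRetrocompact_isoSet (f : X ⟶ S) [LocallyOfFinitePresentation f] {F G : X.Modules}
    (hF : CohB1.IsFP F) (hG : CohB1.IsFP G) (hfl : FlatMod.IsFlatOver f G) (u : F ⟶ G) :
    IsOpen (isoSet u) ∧ IsRetrocompact (isoSet u) := by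
  have hFq := H29Fitt.isQCoh_of_isFP F hF
  have hGq := H29Fitt.isQCoh_of_isFP G hG
  have key : ∀ (W : S.Opens) (V : X.Opens), IsAffineOpen W → IsAffineOpen V → V ≤ f ⁻¹ᵁ W →
      IsOpen (isoSet u ∩ V) ∧ IsCompact (isoSet u ∩ V) := by
    intro W V hW hV e
    letI := (f.appLE W V e).hom.toAlgebra
    haveI : Algebra.FinitePresentation Γ(S, W) Γ(X, V) := f.finitePresentation_appLE hW hV e
    haveI := FinLocFree.finitePresentation_sections F hF hV
    haveI := FinLocFree.finitePresentation_sections G hG hV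
    letI := Module.compHom Γ(G, V) (f.appLE W V e).hom
    haveI : IsScalarTower Γ(S, W) Γ(X, V) Γ(G, V) := .of_algebraMap_smul fun _ _ => rfl
    haveI : Module.Flat Γ(S, W) Γ(G, V) := H06EGA11.flat_sections f G hGq hW hV e fun x _ => hfl x
    obtain ⟨ho, hc⟩ := isOpen_isCompact_locBij (A := Γ(S, W)) (H17.FPExt.appLin' u V)
    have heq : isoSet u ∩ V = hV.fromSpec '' {p | LocBij (H17.FPExt.appLin' u V) p.asIdeal} := by
      refine Set.Subset.antisymm (fun y hy => ⟨hV.primeIdealOf ⟨y, hy.2⟩, ?_, hV.fromSpec_primeIdealOf _⟩) ?_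
      · exact (bijective_stalkLin_iff_locBij hFq hGq u hV ⟨y, hy.2⟩).1 hy.1
      · rintro _ ⟨p, hp, rfl⟩
        have hm : hV.fromSpec p ∈ V := hV.range_fromSpec.subset ⟨p, rfl⟩
        have hp' : hV.primeIdealOf ⟨_, hm⟩ = p :=
          hV.fromSpec.isOpenEmbedding.injective (hV.fromSpec_primeIdealOf _)
        exact ⟨(bijective_stalkLin_iff_locBij hFq hGq u hV ⟨_, hm⟩).2 (hp'.symm ▸ hp), hm⟩
    rw [heq]
    exact ⟨hV.fromSpec.isOpenEmbedding.isOpenMap _ ho, hc.image hV.fromSpec.continuous⟩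
  have small : ∀ (V : X.Opens) (x : X), x ∈ V → ∃ (W : S.Opens) (V' : X.Opens),
      IsAffineOpen W ∧ IsAffineOpen V' ∧ V' ≤ f ⁻¹ᵁ W ∧ x ∈ V' ∧ V' ≤ V := by
    intro V x hx
    obtain ⟨W, hW, hxW, -⟩ := exists_isAffineOpen_mem_and_subset (X := S) (x := f x) (U := ⊤) trivial
    obtain ⟨V', hV', hxV', hle⟩ := exists_isAffineOpen_mem_and_subset (X := X) (x := x) (U := V ⊓ f ⁻¹ᵁ W)
      ⟨hx, hxW⟩
    exact ⟨W, V', hW, hV', hle.trans inf_le_right, hxV', hle.trans inf_le_left⟩
  refine ⟨isOpen_iff_forall_mem_open.2 fun x hx => ?_, fun U hU hUo => ?_⟩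
  · obtain ⟨W, V, hW, hV, e, hxV, -⟩ := small ⊤ x trivial
    exact ⟨isoSet u ∩ V, Set.inter_subset_left, (key W V hW hV e).1, hx, hxV⟩
  · choose W V hW hV e hxV hVU using fun y : U => small ⟨U, hUo⟩ y.1 y.2
    obtain ⟨t, ht⟩ := hU.elim_finite_subcover (fun y : U => (V y : Set X)) (fun y => (V y).2)
      fun y hy => Set.mem_iUnion.2 ⟨⟨y, hy⟩, hxV ⟨y, hy⟩⟩
    have : isoSet u ∩ U = ⋃ y ∈ t, isoSet u ∩ V y := by
      refine Set.Subset.antisymm (fun a ha => ?_) (Set.iUnion₂_subset fun y _ a ha => ⟨ha.1, hVU y ha.2⟩)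
      obtain ⟨y, hyt, hay⟩ := Set.mem_iUnion₂.1 (ht ha.2)
      exact Set.mem_iUnion₂.2 ⟨y, hyt, ha.1, hay⟩
    rw [this]
    exact t.isCompact_biUnion fun y _ => (key _ _ (hW y) (hV y) (e y)).2

/-- The base locus. -/
def baseLocus (f : X ⟶ S) {F G : X.Modules} (u : F ⟶ G) : Set S := (f '' (isoSet u)ᶜ)ᶜ

end Groth.Agent.H8Props.IsoLocus
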